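import Mathlib
import Groth.Agent.Lib.Helper7.FibSurj.QF
import Groth.Agent.Lib.Helper7.FibSurj.Rad

/-! helper7: unramifiedness at a point (formally unramified stalk map) is insensitive to arbitrary
base change, both ways, for morphisms locally of finite type (the support of the module of
differentials commutes with base change); consequences: the unramified locus of a morphism locally
of finite presentation is locally constructible, a morphism is unramified iff its fibre maps over
the base are, and the loci of points of the base over which the map induced on fibres is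
unramified, resp. a monomorphism, are locally constructible (EGA IV 9.6.1, 17.4.1). -/

set_option autoImplicit false
set_option linter.style.haveILetI false
set_option linter.unusedVariables false
set_option linter.unusedSectionVars false
universe u

noncomputable section

namespace Groth.Agent.Helper7.UnramBC

open TensorProduct

theorem mem_support_baseChange_iff {A B M : Type*} [CommRing A] [CommRing B] [Algebra A B]
    [AddCommGroup M] [Module A M] [Module.Finite A M] (q : PrimeSpectrum B) :
    q ∈ Module.support B (B ⊗[A] M) ↔ q.comap (algebraMap A B) ∈ Module.support A M := by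
  let p : PrimeSpectrum A := q.comap (algebraMap A B)
  haveI : q.asIdeal.LiesOver p.asIdeal := ⟨rfl⟩
  let _ := Localization.AtPrime.algebraOfLiesOver p.asIdeal q.asIdeal
  rw [Module.mem_support_iff_nontrivial_residueField_tensorProduct,
    Module.mem_support_iff_nontrivial_residueField_tensorProduct]
  let e1 : q.asIdeal.ResidueField ⊗[B] (B ⊗[A] M) ≃ₗ[B] q.asIdeal.ResidueField ⊗[A] M :=
    AlgebraTensorModule.cancelBaseChange A B B q.asIdeal.ResidueField M
  let e2 : q.asIdeal.ResidueField ⊗[p.asIdeal.ResidueField] (p.asIdeal.ResidueField ⊗[A] M) ≃ₗ[p.asIdeal.ResidueField]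
      q.asIdeal.ResidueField ⊗[A] M :=
    AlgebraTensorModule.cancelBaseChange A p.asIdeal.ResidueField p.asIdeal.ResidueField
      q.asIdeal.ResidueField M
  rw [e1.nontrivial_congr, ← e2.nontrivial_congr]
  exact Module.FaithfullyFlat.nontrivial_tensorProduct_iff_right _ _


attribute [local instance] Algebra.TensorProduct.rightAlgebra in
theorem mem_unramifiedLocus_baseChange_iff {A₀ A B₀ : Type u} [CommRing A₀] [CommRing A]
    [CommRing B₀] [Algebra A₀ A] [Algebra A₀ B₀] [Algebra.FiniteType A₀ B₀]
    (q : PrimeSpectrum (A ⊗[A₀] B₀)) :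
    q ∈ Algebra.unramifiedLocus A (A ⊗[A₀] B₀) ↔
      q.comap (Algebra.TensorProduct.includeRight (R := A₀) (A := A) (B := B₀)).toRingHom ∈
        Algebra.unramifiedLocus A₀ B₀ := by
  rw [Algebra.unramifiedLocus_eq_compl_support, Algebra.unramifiedLocus_eq_compl_support,
    Set.mem_compl_iff, Set.mem_compl_iff, not_iff_not]
  have e := KaehlerDifferential.tensorKaehlerEquiv A₀ A B₀ (A ⊗[A₀] B₀)
  rw [← e.support_eq]
  exact mem_support_baseChange_iff (A := B₀) (B := A ⊗[A₀] B₀) (M := Ω[B₀⁄A₀]) q


section Scheme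

open AlgebraicGeometry CategoryTheory CategoryTheory.Limits

/-- unramified at a point: the stalk map is formally unramified -/
def UnramAt {X Y : Scheme.{u}} (f : X ⟶ Y) (x : X) : Prop :=
  (f.stalkMap x).hom.FormallyUnramified

theorem formallyUnramified_iff_forall_unramAt {X Y : Scheme.{u}} (f : X ⟶ Y) :
    FormallyUnramified f ↔ ∀ x, UnramAt f x :=
  ⟨fun _ x => FormallyUnramified.stalkMap f x,
    fun H => HasRingHomProperty.of_stalkMap RingHom.FormallyUnramified.ofLocalizationPrime H⟩

set_option backward.isDefEq.respectTransparency false in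
theorem unramAt_comp_left_iff {X' X Y : Scheme.{u}} (ι : X' ⟶ X) [IsOpenImmersion ι] (f : X ⟶ Y)
    (x : X') : UnramAt (ι ≫ f) x ↔ UnramAt f (ι x) := by
  simp only [UnramAt, Scheme.Hom.stalkMap_comp, CommRingCat.hom_comp,
    RingHom.FormallyUnramified.respectsIso.cancel_right_isIso]

set_option backward.isDefEq.respectTransparency false in
theorem unramAt_comp_right_iff {X Y Y' : Scheme.{u}} (f : X ⟶ Y) (j : Y ⟶ Y') [IsOpenImmersion j]
    (x : X) : UnramAt (f ≫ j) x ↔ UnramAt f x := by
  simp only [UnramAt, Scheme.Hom.stalkMap_comp, CommRingCat.hom_comp,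
    RingHom.FormallyUnramified.respectsIso.cancel_left_isIso]

set_option backward.isDefEq.respectTransparency false in
theorem unramAt_SpecMap_iff {R S : CommRingCat.{u}} (φ : R ⟶ S) (x : Spec S) :
    UnramAt (Spec.map φ) x ↔
      letI := φ.hom.toAlgebra
      Algebra.IsUnramifiedAt R x.asIdeal := by
  algebraize [φ.hom]
  let _ := Localization.AtPrime.algebraOfLiesOver (x.asIdeal.under R) x.asIdeal
  trans Algebra.FormallyUnramified (Localization.AtPrime (x.asIdeal.under R))
    (Localization.AtPrime x.asIdeal)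
  · rw [← RingHom.formallyUnramified_algebraMap]
    exact RingHom.FormallyUnramified.respectsIso.arrow_mk_iso_iff (Scheme.arrowStalkMapSpecIso ..)
  exact ⟨fun _ ↦ Algebra.FormallyUnramified.comp R (Localization.AtPrime (x.asIdeal.under R)) _,
    fun _ ↦ Algebra.FormallyUnramified.of_restrictScalars R _ _⟩


set_option backward.isDefEq.respectTransparency false in
theorem unramAt_SpecMap_algebraMap_iff {R S : Type u} [CommRing R] [CommRing S] [Algebra R S]
    (x : Spec (CommRingCat.of S)) :
    UnramAt (Spec.map (CommRingCat.ofHom (algebraMap R S))) x ↔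
      Algebra.IsUnramifiedAt R x.asIdeal := by
  let _ := Localization.AtPrime.algebraOfLiesOver (x.asIdeal.under R) x.asIdeal
  trans Algebra.FormallyUnramified (Localization.AtPrime (x.asIdeal.under R))
    (Localization.AtPrime x.asIdeal)
  · rw [← RingHom.formallyUnramified_algebraMap]
    exact RingHom.FormallyUnramified.respectsIso.arrow_mk_iso_iff (Scheme.arrowStalkMapSpecIso ..)
  exact ⟨fun _ ↦ Algebra.FormallyUnramified.comp R (Localization.AtPrime (x.asIdeal.under R)) _,
    fun _ ↦ Algebra.FormallyUnramified.of_restrictScalars R _ _⟩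

theorem unramAt_pullback_fst_Spec_iff (R S T : Type u) [CommRing R] [CommRing S] [CommRing T]
    [Algebra R S] [Algebra R T] [Algebra.FiniteType R T]
    (x : ↥(pullback (Spec.map (CommRingCat.ofHom (algebraMap R S)))
      (Spec.map (CommRingCat.ofHom (algebraMap R T))))) :
    UnramAt (pullback.fst (Spec.map (CommRingCat.ofHom (algebraMap R S)))
      (Spec.map (CommRingCat.ofHom (algebraMap R T)))) x ↔
    UnramAt (Spec.map (CommRingCat.ofHom (algebraMap R T)))
      ((pullback.snd (Spec.map (CommRingCat.ofHom (algebraMap R S)))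
      (Spec.map (CommRingCat.ofHom (algebraMap R T)))) x) := by
  let e := pullbackSpecIso R S T
  have hx : e.inv (e.hom x) = x := by
    simp
  have h1 : UnramAt (pullback.fst (Spec.map (CommRingCat.ofHom (algebraMap R S)))
      (Spec.map (CommRingCat.ofHom (algebraMap R T)))) x ↔
      UnramAt (e.inv ≫ pullback.fst (Spec.map (CommRingCat.ofHom (algebraMap R S)))
      (Spec.map (CommRingCat.ofHom (algebraMap R T)))) (e.hom x) := by
    rw [unramAt_comp_left_iff, hx]
  rw [h1, pullbackSpecIso_inv_fst']
  rw [unramAt_SpecMap_algebraMap_iff, unramAt_SpecMap_algebraMap_iff]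
  have h2 := mem_unramifiedLocus_baseChange_iff (A₀ := R) (A := S) (B₀ := T) (e.hom x)
  have h3 : (pullback.snd (Spec.map (CommRingCat.ofHom (algebraMap R S)))
      (Spec.map (CommRingCat.ofHom (algebraMap R T)))) x =
      PrimeSpectrum.comap (Algebra.TensorProduct.includeRight (R := R) (A := S) (B := T)).toRingHom
        (e.hom x) := by
    have := congrArg (fun φ => φ.base (e.hom x)) (pullbackSpecIso_inv_snd R S T)
    simp only [Scheme.Hom.comp_base, TopCat.comp_app] at this
    rw [hx] at this
    exact this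
  rw [h3]
  exact h2


theorem unramAt_pullback_fst_affine {Z ZA ZB : Scheme.{u}} (w : ZA ⟶ Z) (u : ZB ⟶ Z)
    [LocallyOfFiniteType u] (hZ : ∃ R, Z = Spec R) (hA : ∃ A, ZA = Spec A)
    (hB : ∃ B, ZB = Spec B) (x : ↥(pullback w u)) :
    UnramAt (pullback.fst w u) x ↔ UnramAt u ((pullback.snd w u) x) := by
  obtain ⟨R, rfl⟩ := hZ
  obtain ⟨A, rfl⟩ := hA
  obtain ⟨B, rfl⟩ := hB
  obtain ⟨ψ, rfl⟩ := Spec.map_surjective w
  obtain ⟨φ, rfl⟩ := Spec.map_surjective u
  have hφ : φ.hom.FiniteType :=
    (HasRingHomProperty.Spec_iff (P := @LocallyOfFiniteType)).mp inferInstance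
  algebraize [ψ.hom, φ.hom]
  exact unramAt_pullback_fst_Spec_iff R A B x

theorem unramAt_pullback_fst_iff {X₀ Y₀ Y : Scheme.{u}} (g : Y ⟶ Y₀) (f₀ : X₀ ⟶ Y₀)
    [LocallyOfFiniteType f₀] (x : ↥(pullback g f₀)) :
    UnramAt (pullback.fst g f₀) x ↔ UnramAt f₀ ((pullback.snd g f₀) x) := by
  -- charts
  obtain ⟨i, y₀', hy₀⟩ := Y₀.affineCover.exists_eq (g ((pullback.fst g f₀) x))
  have hy₀2 : f₀ ((pullback.snd g f₀) x) = Y₀.affineCover.f i y₀' := by
    rw [hy₀]
    have := congrArg (fun φ => φ.base x) (pullback.condition (f := g) (g := f₀))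
    simp only [Scheme.Hom.comp_base, TopCat.comp_app] at this
    exact this.symm
  obtain ⟨a, ha, -⟩ := Scheme.Pullback.exists_preimage_pullback (f := g)
    (g := Y₀.affineCover.f i) ((pullback.fst g f₀) x) y₀' hy₀.symm
  obtain ⟨b, hb, -⟩ := Scheme.Pullback.exists_preimage_pullback (f := f₀)
    (g := Y₀.affineCover.f i) ((pullback.snd g f₀) x) y₀' hy₀2
  obtain ⟨k, a', ha'⟩ := (pullback g (Y₀.affineCover.f i)).affineCover.exists_eq a
  obtain ⟨j, b', hb'⟩ := (pullback f₀ (Y₀.affineCover.f i)).affineCover.exists_eq b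
  let i₁ := (pullback g (Y₀.affineCover.f i)).affineCover.f k ≫ pullback.fst g (Y₀.affineCover.f i)
  let w := (pullback g (Y₀.affineCover.f i)).affineCover.f k ≫ pullback.snd g (Y₀.affineCover.f i)
  let i₂ := (pullback f₀ (Y₀.affineCover.f i)).affineCover.f j ≫
    pullback.fst f₀ (Y₀.affineCover.f i)
  let u := (pullback f₀ (Y₀.affineCover.f i)).affineCover.f j ≫
    pullback.snd f₀ (Y₀.affineCover.f i)
  have e₁ : w ≫ Y₀.affineCover.f i = i₁ ≫ g := by
    simp only [w, i₁, Category.assoc, pullback.condition]
  have e₂ : u ≫ Y₀.affineCover.f i = i₂ ≫ f₀ := by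
    simp only [u, i₂, Category.assoc, pullback.condition]
  let m := pullback.map w u g f₀ i₁ i₂ (Y₀.affineCover.f i) e₁ e₂
  have hxm : x ∈ Set.range m := by
    rw [Scheme.Pullback.range_map]
    refine ⟨⟨a', ?_⟩, ⟨b', ?_⟩⟩
    · simp only [i₁, Scheme.Hom.comp_base, TopCat.comp_app]
      rw [ha', ha]
    · simp only [i₂, Scheme.Hom.comp_base, TopCat.comp_app]
      rw [hb', hb]
  obtain ⟨x'', rfl⟩ := hxm
  haveI : LocallyOfFiniteType u := by
    have : LocallyOfFiniteType (u ≫ Y₀.affineCover.f i) := by
      rw [e₂]; infer_instance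
    exact locallyOfFiniteType_of_comp u (Y₀.affineCover.f i)
  have hfst : m ≫ pullback.fst g f₀ = pullback.fst w u ≫ i₁ := pullback.lift_fst _ _ _
  have hsnd : m ≫ pullback.snd g f₀ = pullback.snd w u ≫ i₂ := pullback.lift_snd _ _ _
  have h1 : UnramAt (pullback.fst g f₀) (m x'') ↔ UnramAt (pullback.fst w u) x'' := by
    rw [← unramAt_comp_left_iff, hfst, unramAt_comp_right_iff]
  have h2 : (pullback.snd g f₀) (m x'') = i₂ ((pullback.snd w u) x'') := by
    have := congrArg (fun φ => φ.base x'') hsnd
    simp only [Scheme.Hom.comp_base, TopCat.comp_app] at this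
    exact this
  have h3 : UnramAt f₀ (i₂ ((pullback.snd w u) x'')) ↔ UnramAt u ((pullback.snd w u) x'') := by
    rw [← unramAt_comp_left_iff, ← e₂, unramAt_comp_right_iff]
  rw [h1, h2, h3]
  exact unramAt_pullback_fst_affine w u ⟨_, rfl⟩ ⟨_, rfl⟩ ⟨_, rfl⟩ x''


theorem unramAt_iff_of_isPullback {X Y X₀ Y₀ : Scheme.{u}} {g' : X ⟶ X₀} {f : X ⟶ Y}
    {f₀ : X₀ ⟶ Y₀} {g : Y ⟶ Y₀} (h : IsPullback g' f f₀ g) [LocallyOfFiniteType f₀]
    (x : X) : UnramAt f x ↔ UnramAt f₀ (g' x) := by
  let e := h.flip.isoPullback
  have h1 : e.hom ≫ pullback.fst g f₀ = f := h.flip.isoPullback_hom_fst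
  have h2 : e.hom ≫ pullback.snd g f₀ = g' := h.flip.isoPullback_hom_snd
  have h3 : UnramAt f x ↔ UnramAt (pullback.fst g f₀) (e.hom x) := by
    rw [← unramAt_comp_left_iff, h1]
  have h4 : g' x = (pullback.snd g f₀) (e.hom x) := by
    have := congrArg (fun φ => φ.base x) h2
    simp only [Scheme.Hom.comp_base, TopCat.comp_app] at this
    exact this.symm
  rw [h3, h4]
  exact unramAt_pullback_fst_iff g f₀ (e.hom x)

theorem isOpen_unramAt_SpecMap {R S : CommRingCat.{u}} (φ : R ⟶ S) (hφ : φ.hom.FiniteType) :
    IsOpen {x : Spec S | UnramAt (Spec.map φ) x} := by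
  algebraize [φ.hom]
  have : {x : Spec S | UnramAt (Spec.map φ) x} = Algebra.unramifiedLocus R S := by
    ext x
    exact unramAt_SpecMap_algebraMap_iff (R := R) (S := S) x
  rw [this]
  exact Algebra.isOpen_unramifiedLocus

open Topology in
theorem isConstructible_unramAt_SpecMap {R S : CommRingCat.{u}} (φ : R ⟶ S)
    (hφ : φ.hom.FinitePresentation) :
    IsConstructible {x : Spec S | UnramAt (Spec.map φ) x} := by
  algebraize [φ.hom]
  let P := Algebra.Presentation.ofFinitePresentation R S
  let R₀ := P.Core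
  let S₀ := P.ModelOfHasCoeffs R₀
  let e : R ⊗[R₀] S₀ ≃ₐ[R] S := P.tensorModelOfHasCoeffsEquiv R₀
  let a : CommRingCat.of R₀ ⟶ R := CommRingCat.ofHom (algebraMap R₀ R)
  let b : CommRingCat.of R₀ ⟶ CommRingCat.of S₀ := CommRingCat.ofHom (algebraMap R₀ S₀)
  let c : CommRingCat.of S₀ ⟶ S := CommRingCat.ofHom
    ((e : R ⊗[R₀] S₀ →+* S).comp Algebra.TensorProduct.includeRight.toRingHom)
  have hpo : IsPushout a b φ c := by
    refine (CommRingCat.isPushout_tensorProduct R₀ R S₀).of_iso (Iso.refl _) (Iso.refl _)
      (Iso.refl _) e.toRingEquiv.toCommRingCatIso ?_ ?_ ?_ ?_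
    · simp [a]
    · simp [b]
    · ext r
      have h1 : (r ⊗ₜ[R₀] (1 : S₀)) = algebraMap R (R ⊗[R₀] S₀) r :=
        (Algebra.TensorProduct.algebraMap_apply (R := R₀) (S := R) (A := R) (B := S₀) r).symm
      change e (r ⊗ₜ[R₀] (1 : S₀)) = φ.hom r
      rw [h1, e.commutes]
      rfl
    · rw [Iso.refl_hom, Category.id_comp]
      rfl
  have hpb : IsPullback (Spec.map c) (Spec.map φ) (Spec.map b) (Spec.map a) :=
    (isPullback_SpecMap_of_isPushout a b φ c hpo).flip
  have hb : b.hom.FinitePresentation := by
    change (algebraMap R₀ S₀).FinitePresentation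
    rw [RingHom.finitePresentation_algebraMap]
    infer_instance
  haveI : LocallyOfFinitePresentation (Spec.map b) :=
    (HasRingHomProperty.Spec_iff (P := @LocallyOfFinitePresentation)).mpr hb
  haveI : IsNoetherianRing R₀ := Algebra.FiniteType.isNoetherianRing ℤ R₀
  haveI : IsNoetherianRing S₀ := Algebra.FiniteType.isNoetherianRing R₀ S₀
  haveI : TopologicalSpace.NoetherianSpace (Spec (CommRingCat.of S₀)) :=
    inferInstanceAs (TopologicalSpace.NoetherianSpace (PrimeSpectrum S₀))
  have hU₀ : IsConstructible {x₀ : Spec (CommRingCat.of S₀) | UnramAt (Spec.map b) x₀} := by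
    refine IsRetrocompact.isConstructible
      (isOpen_unramAt_SpecMap b (RingHom.FiniteType.of_finitePresentation hb))
      (fun V hV hVo => ?_)
    exact TopologicalSpace.NoetherianSpace.isCompact _
  have heq : {x : Spec S | UnramAt (Spec.map φ) x} =
      (Spec.map c) ⁻¹' {x₀ : Spec (CommRingCat.of S₀) | UnramAt (Spec.map b) x₀} := by
    ext x
    exact unramAt_iff_of_isPullback hpb x
  rw [heq]
  exact (Spec.map c).isConstructible_preimage hU₀

open Topology Groth.Agent.Helper7.FibSurj in
theorem isLocallyConstructible_unramAt_of_affine_affine {X Y : Scheme.{u}} (f : X ⟶ Y)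
    [LocallyOfFinitePresentation f] (hX : ∃ S, X = Spec S) (hY : ∃ R, Y = Spec R) :
    IsLocallyConstructible {x | UnramAt f x} := by
  obtain ⟨S, rfl⟩ := hX
  obtain ⟨R, rfl⟩ := hY
  obtain ⟨φ, rfl⟩ := Spec.map_surjective f
  have hφ : φ.hom.FinitePresentation :=
    (HasRingHomProperty.Spec_iff (P := @LocallyOfFinitePresentation)).mp inferInstance
  exact (isConstructible_unramAt_SpecMap φ hφ).isLocallyConstructible

open Topology Groth.Agent.Helper7.FibSurj in
theorem isLocallyConstructible_unramAt_of_affine {X Y : Scheme.{u}} (f : X ⟶ Y)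
    [LocallyOfFinitePresentation f] (hY : ∃ R, Y = Spec R) :
    IsLocallyConstructible {x | UnramAt f x} := by
  refine isLocallyConstructible_of_openCover X.affineCover fun i => ?_
  have h1 := isLocallyConstructible_unramAt_of_affine_affine (X.affineCover.f i ≫ f)
    ⟨_, rfl⟩ hY
  convert h1 using 1
  ext x
  simp only [Set.mem_preimage, Set.mem_ofPred_eq]
  exact (unramAt_comp_left_iff _ _ _).symm

open Topology Groth.Agent.Helper7.FibSurj in
theorem isLocallyConstructible_unramAt {X Y : Scheme.{u}} (f : X ⟶ Y)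
    [LocallyOfFinitePresentation f] :
    IsLocallyConstructible {x | UnramAt f x} := by
  refine isLocallyConstructible_of_openCover (Y.affineCover.pullback₁ f) fun i => ?_
  have h1 := isLocallyConstructible_unramAt_of_affine
    (pullback.snd f (Y.affineCover.f i)) ⟨_, rfl⟩
  have h2 : {x | UnramAt (pullback.snd f (Y.affineCover.f i)) x} =
      ((Y.affineCover.pullback₁ f).f i) ⁻¹' {x | UnramAt f x} := by
    ext x
    exact (unramAt_iff_of_isPullback
      (IsPullback.of_hasPullback f (Y.affineCover.f i)) x)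
  rw [h2] at h1
  exact h1

end Scheme

section Main

open AlgebraicGeometry CategoryTheory CategoryTheory.Limits
open Topology Groth.Agent.Helper7.FibSurj

variable {X Y S : Scheme.{u}} (f : X ⟶ Y) (g : Y ⟶ S)

theorem formallyUnramified_fibMap_iff [LocallyOfFiniteType f] (s : S) :
    FormallyUnramified (fibMap f g s) ↔ ∀ x : X, (f ≫ g) x = s → UnramAt f x := by
  have hpb := isPullback_fibMap f g s
  rw [formallyUnramified_iff_forall_unramAt]
  constructor
  · intro h x hx
    have hx' : x ∈ Set.range ((f ≫ g).fiberι s) := by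
      rw [Scheme.Hom.range_fiberι]
      exact hx
    obtain ⟨x', rfl⟩ := hx'
    exact (unramAt_iff_of_isPullback hpb x').mp (h x')
  · intro h x'
    refine (unramAt_iff_of_isPullback hpb x').mpr (h _ ?_)
    have : ((f ≫ g).fiberι s) x' ∈ Set.range ((f ≫ g).fiberι s) := ⟨x', rfl⟩
    rw [Scheme.Hom.range_fiberι] at this
    exact this

theorem isLocallyConstructible_setOf_formallyUnramified
    [LocallyOfFinitePresentation g] [QuasiCompact g] [QuasiSeparated g]
    [LocallyOfFinitePresentation (f ≫ g)] [QuasiCompact (f ≫ g)] [QuasiSeparated (f ≫ g)] :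
    IsLocallyConstructible {s : S | FormallyUnramified (fibMap f g s)} := by
  haveI : LocallyOfFinitePresentation f :=
    Groth.Agent.Helper2.locallyOfFinitePresentation_of_comp f g inferInstance inferInstance
  have h1 : IsLocallyConstructible {x | UnramAt f x}ᶜ :=
    isLocallyConstructible_compl (isLocallyConstructible_unramAt f)
  have h2 : IsLocallyConstructible ((f ≫ g) '' {x | UnramAt f x}ᶜ) :=
    (f ≫ g).isLocallyConstructible_image h1
  have h3 : {s : S | FormallyUnramified (fibMap f g s)} =
      ((f ≫ g) '' {x | UnramAt f x}ᶜ)ᶜ := by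
    ext s
    rw [Set.mem_ofPred_eq, formallyUnramified_fibMap_iff, Set.mem_compl_iff, Set.mem_image]
    constructor
    · rintro h ⟨x, hx, hxs⟩
      exact hx (h x hxs)
    · intro h x hxs
      by_contra hx
      exact h ⟨x, hx, hxs⟩
  rw [h3]
  exact isLocallyConstructible_compl h2

theorem mono_iff_universallyInjective_and_formallyUnramified {X Y : Scheme.{u}} (φ : X ⟶ Y)
    [LocallyOfFiniteType φ] : Mono φ ↔ UniversallyInjective φ ∧ FormallyUnramified φ := by
  constructor
  · intro h
    refine ⟨inferInstance, ?_⟩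
    haveI : IsIso (pullback.diagonal φ) := (pullback.isIso_diagonal_iff φ).mpr h
    infer_instance
  · rintro ⟨h1, h2⟩
    have h3 : IsOpenImmersion (pullback.diagonal φ) := inferInstance
    have h4 : Surjective (pullback.diagonal φ) := (UniversallyInjective.iff_diagonal φ).mp h1
    have h5 : IsIso (pullback.diagonal φ) :=
      (isIso_iff_isOpenImmersion_and_surjective _).mpr ⟨h3, h4⟩
    exact (pullback.isIso_diagonal_iff φ).mp h5

theorem isLocallyConstructible_setOf_mono
    [LocallyOfFinitePresentation g] [QuasiCompact g] [QuasiSeparated g]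
    [LocallyOfFinitePresentation (f ≫ g)] [QuasiCompact (f ≫ g)] [QuasiSeparated (f ≫ g)] :
    IsLocallyConstructible {s : S | Mono (fibMap f g s)} := by
  haveI : LocallyOfFinitePresentation f :=
    Groth.Agent.Helper2.locallyOfFinitePresentation_of_comp f g inferInstance inferInstance
  have h : {s : S | Mono (fibMap f g s)} =
      {s : S | UniversallyInjective (fibMap f g s)} ∩
        {s : S | FormallyUnramified (fibMap f g s)} := by
    ext s
    haveI : LocallyOfFiniteType (fibMap f g s) :=
      MorphismProperty.of_isPullback (P := @LocallyOfFiniteType) (isPullback_fibMap f g s)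
        inferInstance
    exact mono_iff_universallyInjective_and_formallyUnramified (fibMap f g s)
  rw [h]
  exact (isLocallyConstructible_setOf_universallyInjective f g).inter
    (isLocallyConstructible_setOf_formallyUnramified f g)


theorem formallyUnramified_iff_fibres {X Y S : Scheme.{u}} (g : Y ⟶ S) (h : X ⟶ S)
    [LocallyOfFinitePresentation g] [LocallyOfFinitePresentation h] (f : X ⟶ Y)
    (w : f ≫ g = h) :
    FormallyUnramified f ↔ ∀ s : ↥S, FormallyUnramified (pullback.snd f (g.fiberι s)) := by
  subst w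
  haveI : LocallyOfFinitePresentation f :=
    Groth.Agent.Helper2.locallyOfFinitePresentation_of_comp f g inferInstance inferInstance
  constructor
  · intro hf s
    exact MorphismProperty.pullback_snd (P := @FormallyUnramified) _ _ hf
  · intro H
    rw [formallyUnramified_iff_forall_unramAt]
    intro x
    have hx : f x ∈ Set.range (g.fiberι (g (f x))) := by
      rw [Scheme.Hom.range_fiberι]
      rfl
    obtain ⟨y', hy'⟩ := hx
    obtain ⟨x', hx', -⟩ := Scheme.Pullback.exists_preimage_pullback (f := f)
      (g := g.fiberι (g (f x))) x y' hy'.symm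
    have h1 := (unramAt_iff_of_isPullback
      (IsPullback.of_hasPullback f (g.fiberι (g (f x)))) x').mp
      ((formallyUnramified_iff_forall_unramAt _).mp (H (g (f x))) x')
    rw [hx'] at h1
    exact h1

end Main


end Groth.Agent.Helper7.UnramBC
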