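import Mathlib
import Groth.Agent.Lib.Helper7.UnramBC.Main

/-! helper7: local lifting criterion for unramified at a point (S5009): openness of the
unramified locus, uniqueness of infinitesimal lifts, and the converse via the square-zero
thickening of the diagonal of the stalk. -/

set_option autoImplicit false
set_option linter.style.haveILetI false
set_option linter.unusedVariables false
set_option linter.unusedSectionVars false
universe u

noncomputable section

namespace Groth.Agent.Helper7.UnramBC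

open TensorProduct AlgebraicGeometry CategoryTheory CategoryTheory.Limits

theorem isOpen_of_openCover {X : Scheme.{u}} (𝒰 : X.OpenCover) {s : Set X}
    (H : ∀ i, IsOpen ((𝒰.f i) ⁻¹' s)) : IsOpen s := by
  have : s = ⋃ i, (𝒰.f i) '' ((𝒰.f i) ⁻¹' s) := by
    ext x
    constructor
    · intro hx
      obtain ⟨i, y, rfl⟩ := 𝒰.exists_eq x
      exact Set.mem_iUnion.mpr ⟨i, y, hx, rfl⟩
    · intro hx
      obtain ⟨i, y, hy, rfl⟩ := Set.mem_iUnion.mp hx
      exact hy
  rw [this]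
  exact isOpen_iUnion fun i => (𝒰.f i).isOpenEmbedding.isOpenMap _ (H i)

theorem isOpen_unramAt_of_affine_affine {X Y : Scheme.{u}} (f : X ⟶ Y)
    [LocallyOfFiniteType f] (hX : ∃ S, X = Spec S) (hY : ∃ R, Y = Spec R) :
    IsOpen {x | UnramAt f x} := by
  obtain ⟨S, rfl⟩ := hX
  obtain ⟨R, rfl⟩ := hY
  obtain ⟨φ, rfl⟩ := Spec.map_surjective f
  have hφ : φ.hom.FiniteType :=
    (HasRingHomProperty.Spec_iff (P := @LocallyOfFiniteType)).mp inferInstance
  exact isOpen_unramAt_SpecMap φ hφ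

theorem isOpen_unramAt_of_affine {X Y : Scheme.{u}} (f : X ⟶ Y)
    [LocallyOfFiniteType f] (hY : ∃ R, Y = Spec R) :
    IsOpen {x | UnramAt f x} := by
  refine isOpen_of_openCover X.affineCover fun i => ?_
  have h1 := isOpen_unramAt_of_affine_affine (X.affineCover.f i ≫ f) ⟨_, rfl⟩ hY
  convert h1 using 1
  ext x
  simp only [Set.mem_preimage, Set.mem_ofPred_eq]
  exact (unramAt_comp_left_iff _ _ _).symm

theorem isOpen_unramAt {X Y : Scheme.{u}} (f : X ⟶ Y) [LocallyOfFiniteType f] :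
    IsOpen {x | UnramAt f x} := by
  refine isOpen_of_openCover (Y.affineCover.pullback₁ f) fun i => ?_
  have h1 := isOpen_unramAt_of_affine (pullback.snd f (Y.affineCover.f i)) ⟨_, rfl⟩
  have h2 : {x | UnramAt (pullback.snd f (Y.affineCover.f i)) x} =
      ((Y.affineCover.pullback₁ f).f i) ⁻¹' {x | UnramAt f x} := by
    ext x
    exact (unramAt_iff_of_isPullback
      (IsPullback.of_hasPullback f (Y.affineCover.f i)) x)
  rw [h2] at h1
  exact h1

theorem exists_open_formallyUnramified_iff {X Y : Scheme.{u}} (f : X ⟶ Y)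
    [LocallyOfFiniteType f] (x : X) :
    (∃ U : X.Opens, x ∈ U ∧ FormallyUnramified (U.ι ≫ f)) ↔ UnramAt f x := by
  constructor
  · rintro ⟨U, hxU, hU⟩
    have := (formallyUnramified_iff_forall_unramAt _).mp hU ⟨x, hxU⟩
    rwa [unramAt_comp_left_iff] at this
  · intro hx
    refine ⟨⟨{x | UnramAt f x}, isOpen_unramAt f⟩, hx, ?_⟩
    rw [formallyUnramified_iff_forall_unramAt]
    intro z
    rw [unramAt_comp_left_iff]
    exact z.2


theorem isLocalHom_of_surjective_of_ker_sq {R S : Type*} [CommRing R] [CommRing S] (φ : R →+* S)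
    (hφ : Function.Surjective φ) (hker : RingHom.ker φ ^ 2 = ⊥) : IsLocalHom φ := by
  constructor
  intro a ha
  obtain ⟨c, hc⟩ := hφ ((ha.unit⁻¹ : Sˣ) : S)
  have h1 : φ (a * c - 1) = 0 := by
    rw [map_sub, map_mul, hc, map_one, IsUnit.mul_val_inv, sub_self]
  have h2 : a * c - 1 ∈ RingHom.ker φ := h1
  have h3 : (a * c - 1) ^ 2 = 0 := by
    have : (a * c - 1) ^ 2 ∈ RingHom.ker φ ^ 2 := Ideal.pow_mem_pow h2 2
    rw [hker] at this
    exact this
  have h4 : IsNilpotent (a * c - 1) := ⟨2, h3⟩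
  have h5 : IsUnit (a * c) := by
    have := h4.isUnit_add_one
    simpa using this
  exact isUnit_of_mul_isUnit_left h5

theorem isNilpotent_ker_SpecMap {B B' : Type u} [CommRing B] [CommRing B'] (φ : B' →+* B)
    (hker : RingHom.ker φ ^ 2 = ⊥) :
    IsNilpotent (Spec.map (CommRingCat.ofHom φ)).ker := by
  refine ⟨2, ?_⟩
  rw [Scheme.IdealSheafData.zero_eq_bot]
  apply Scheme.IdealSheafData.ext_of_isAffine
  simp only [Scheme.IdealSheafData.ideal_pow, Scheme.IdealSheafData.ideal_bot, Pi.bot_apply,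
    Pi.pow_apply]
  rw [Scheme.Hom.ker_apply]
  rw [eq_bot_iff, sq, Ideal.mul_le]
  intro a ha b hb
  rw [RingHom.mem_ker] at ha hb
  have hnat := Scheme.ΓSpecIso_naturality (CommRingCat.ofHom φ)
  have key : ∀ c : Γ(Spec (CommRingCat.of B'), ⊤),
      ((Spec.map (CommRingCat.ofHom φ)).app ⊤).hom c = 0 →
      (Scheme.ΓSpecIso (CommRingCat.of B')).hom c ∈ RingHom.ker φ := by
    intro c hc
    have h := congrArg (fun ψ => ψ.hom c) hnat
    simp only [CommRingCat.hom_comp, RingHom.coe_comp, Function.comp_apply] at h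
    rw [RingHom.mem_ker]
    change (CommRingCat.ofHom φ).hom _ = 0
    rw [← h]
    have : ((Spec.map (CommRingCat.ofHom φ)).appTop).hom c = 0 := hc
    rw [this, map_zero]
  have h1 : (Scheme.ΓSpecIso (CommRingCat.of B')).hom (a * b) ∈ RingHom.ker φ ^ 2 := by
    rw [map_mul, sq]
    exact Ideal.mul_mem_mul (key a ha) (key b hb)
  rw [hker, Ideal.mem_bot] at h1
  have hinj : Function.Injective (Scheme.ΓSpecIso (CommRingCat.of B')).hom :=
    (ConcreteCategory.bijective_of_isIso (Scheme.ΓSpecIso (CommRingCat.of B')).hom).1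
  rw [Ideal.mem_bot]
  exact hinj (h1.trans (map_zero _).symm)


theorem lift_unique_of_nhd {X Y : Scheme.{u}} (f : X ⟶ Y) (x : X) (U : X.Opens) (hxU : x ∈ U)
    [FormallyUnramified (U.ι ≫ f)]
    (B B' : Type u) [CommRing B] [CommRing B'] [IsLocalRing B] [IsLocalRing B'] (φ : B' →+* B)
    (hφ : Function.Surjective φ) (hker : RingHom.ker φ ^ 2 = ⊥)
    (α : Spec (CommRingCat.of B) ⟶ X) (β : Spec (CommRingCat.of B') ⟶ Y)
    (hα : α.base (IsLocalRing.closedPoint B) = x)
    (γ₁ γ₂ : Spec (CommRingCat.of B') ⟶ X)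
    (h1 : Spec.map (CommRingCat.ofHom φ) ≫ γ₁ = α) (h1' : γ₁ ≫ f = β)
    (h2 : Spec.map (CommRingCat.ofHom φ) ≫ γ₂ = α) (h2' : γ₂ ≫ f = β) : γ₁ = γ₂ := by
  haveI : IsLocalHom φ := isLocalHom_of_surjective_of_ker_sq φ hφ hker
  have hcl : (Spec.map (CommRingCat.ofHom φ)).base (IsLocalRing.closedPoint B) =
      IsLocalRing.closedPoint B' := IsLocalRing.comap_closedPoint φ
  have hrange : ∀ γ : Spec (CommRingCat.of B') ⟶ X, Spec.map (CommRingCat.ofHom φ) ≫ γ = α →
      Set.range γ ⊆ Set.range U.ι := by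
    intro γ hγ
    rintro _ ⟨z, rfl⟩
    have hz : γ.base z ⤳ γ.base (IsLocalRing.closedPoint B') :=
      (IsLocalRing.specializes_closedPoint z).map γ.continuous
    have hx' : γ.base (IsLocalRing.closedPoint B') = x := by
      rw [← hcl, ← hα, ← hγ]
      rfl
    rw [hx'] at hz
    have : γ.base z ∈ (U : Set X) := hz.mem_open U.isOpen hxU
    simpa using this
  let δ₁ := IsOpenImmersion.lift U.ι γ₁ (hrange γ₁ h1)
  let δ₂ := IsOpenImmersion.lift U.ι γ₂ (hrange γ₂ h2)
  have hδ₁ : δ₁ ≫ U.ι = γ₁ := IsOpenImmersion.lift_fac _ _ _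
  have hδ₂ : δ₂ ≫ U.ι = γ₂ := IsOpenImmersion.lift_fac _ _ _
  haveI : IsClosedImmersion (Spec.map (CommRingCat.ofHom φ)) :=
    IsClosedImmersion.spec_of_surjective _ hφ
  have key : δ₁ = δ₂ := by
    refine FormallyUnramified.hom_ext (Spec.map (CommRingCat.ofHom φ))
      (isNilpotent_ker_SpecMap φ hker) (U.ι ≫ f) ?_ ?_
    · rw [← cancel_mono U.ι, Category.assoc, Category.assoc, hδ₁, hδ₂, h1, h2]
    · rw [← Category.assoc, ← Category.assoc, hδ₁, hδ₂, h1', h2']
  rw [← hδ₁, ← hδ₂, key]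

theorem formallyUnramified_of_kerSquare (A₀ A : Type u) [CommRing A₀] [CommRing A] [Algebra A₀ A]
    (h : ∀ a : A, (1 : A) ⊗ₜ[A₀] a - a ⊗ₜ[A₀] (1 : A) ∈ (KaehlerDifferential.ideal A₀ A) ^ 2) :
    Algebra.FormallyUnramified A₀ A := by
  have hD : ∀ a : A, KaehlerDifferential.D A₀ A a = 0 := by
    intro a
    rw [KaehlerDifferential.D_apply]
    exact (Ideal.toCotangent_eq_zero _ _).mpr (h a)
  refine ⟨?_⟩
  have htop := KaehlerDifferential.span_range_derivation A₀ A
  have hbot : Submodule.span A (Set.range (KaehlerDifferential.D A₀ A)) = ⊥ := by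
    rw [Submodule.span_eq_bot]
    rintro _ ⟨a, rfl⟩
    exact hD a
  rw [hbot] at htop
  exact (Submodule.subsingleton_iff A).mp (subsingleton_of_bot_eq_top htop)

theorem unramAt_of_lift_unique {X Y : Scheme.{u}} (f : X ⟶ Y) (x : X)
    (H : ∀ (B B' : Type u) [CommRing B] [CommRing B'] [IsLocalRing B] [IsLocalRing B']
      (φ : B' →+* B),
      Function.Surjective φ → RingHom.ker φ ^ 2 = ⊥ →
      ∀ (α : Spec (CommRingCat.of B) ⟶ X) (β : Spec (CommRingCat.of B') ⟶ Y),
        α.base (IsLocalRing.closedPoint B) = x → Spec.map (CommRingCat.ofHom φ) ≫ β = α ≫ f →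
        ∀ γ₁ γ₂ : Spec (CommRingCat.of B') ⟶ X,
          Spec.map (CommRingCat.ofHom φ) ≫ γ₁ = α → γ₁ ≫ f = β →
          Spec.map (CommRingCat.ofHom φ) ≫ γ₂ = α → γ₂ ≫ f = β → γ₁ = γ₂) :
    UnramAt f x := by
  algebraize [(f.stalkMap x).hom]
  let A₀ : Type u := Y.presheaf.stalk (f x)
  let A : Type u := X.presheaf.stalk x
  let m : A ⊗[A₀] A →ₐ[A₀] A := Algebra.TensorProduct.lmul' A₀ (S := A)
  let I : Ideal (A ⊗[A₀] A) := RingHom.ker m.toRingHom
  let T : Type u := (A ⊗[A₀] A) ⧸ I ^ 2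
  let π : T →ₐ[A₀] A := m.kerSquareLift
  have hπsurj : Function.Surjective π.toRingHom := by
    intro a
    refine ⟨Ideal.Quotient.mk _ (a ⊗ₜ 1), ?_⟩
    change m.kerSquareLift (Ideal.Quotient.mk _ (a ⊗ₜ 1)) = a
    rw [AlgHom.kerSquareLift_mk]
    simp [m]
  have hπker : RingHom.ker π.toRingHom ^ 2 = ⊥ := by
    rw [AlgHom.ker_kerSquareLift, Ideal.cotangentIdeal_square]
  haveI : IsLocalHom π.toRingHom := isLocalHom_of_surjective_of_ker_sq _ hπsurj hπker
  haveI : IsLocalRing T := RingHom.domain_isLocalRing π.toRingHom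
  let q : A ⊗[A₀] A →+* T := Ideal.Quotient.mk (I ^ 2)
  let i₁ : A →+* T := q.comp (Algebra.TensorProduct.includeLeftRingHom)
  let i₂ : A →+* T := q.comp (Algebra.TensorProduct.includeRight (R := A₀) (A := A) (B := A)).toRingHom
  have hπi₁ : π.toRingHom.comp i₁ = RingHom.id A := by
    ext a
    change m.kerSquareLift (Ideal.Quotient.mk _ (a ⊗ₜ 1)) = a
    rw [AlgHom.kerSquareLift_mk]
    simp [m]
  have hπi₂ : π.toRingHom.comp i₂ = RingHom.id A := by
    ext a
    change m.kerSquareLift (Ideal.Quotient.mk _ (1 ⊗ₜ a)) = a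
    rw [AlgHom.kerSquareLift_mk]
    simp [m]
  have hi₁ : i₁.comp (algebraMap A₀ A) = algebraMap A₀ T := by
    ext r
    change q ((algebraMap A₀ A r) ⊗ₜ 1) = algebraMap A₀ T r
    rw [← Ideal.Quotient.mk_algebraMap]
    rfl
  have hi₂ : i₂.comp (algebraMap A₀ A) = algebraMap A₀ T := by
    ext r
    change q (1 ⊗ₜ (algebraMap A₀ A r)) = algebraMap A₀ T r
    rw [← Ideal.Quotient.mk_algebraMap]
    change _ = q (algebraMap A₀ (A ⊗[A₀] A) r)
    congr 1
    rw [Algebra.TensorProduct.algebraMap_apply]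
    rw [← mul_one (algebraMap A₀ A r), ← Algebra.smul_def, ← TensorProduct.smul_tmul]
  have hπalg : π.toRingHom.comp (algebraMap A₀ T) = algebraMap A₀ A := π.comp_algebraMap
  have hstalk : (algebraMap A₀ A) = (f.stalkMap x).hom := rfl
  have hsq := Scheme.SpecMap_stalkMap_fromSpecStalk f (x := x)
  let α : Spec (CommRingCat.of A) ⟶ X := X.fromSpecStalk x
  let β : Spec (CommRingCat.of T) ⟶ Y :=
    Spec.map (CommRingCat.ofHom (algebraMap A₀ T)) ≫ Y.fromSpecStalk (f x)
  let γ₁ : Spec (CommRingCat.of T) ⟶ X := Spec.map (CommRingCat.ofHom i₁) ≫ X.fromSpecStalk x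
  let γ₂ : Spec (CommRingCat.of T) ⟶ X := Spec.map (CommRingCat.ofHom i₂) ≫ X.fromSpecStalk x
  have hαx : α.base (IsLocalRing.closedPoint A) = x := Scheme.fromSpecStalk_closedPoint
  have hfs : Spec.map (CommRingCat.ofHom (algebraMap A₀ A)) ≫ Y.fromSpecStalk (f x) =
      X.fromSpecStalk x ≫ f := hsq
  have hcomm : Spec.map (CommRingCat.ofHom π.toRingHom) ≫ β = α ≫ f := by
    change Spec.map (CommRingCat.ofHom π.toRingHom) ≫
      Spec.map (CommRingCat.ofHom (algebraMap A₀ T)) ≫ Y.fromSpecStalk (f x) = _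
    rw [← Category.assoc, ← Spec.map_comp, ← CommRingCat.ofHom_comp, hπalg]
    exact hfs
  have h1 : Spec.map (CommRingCat.ofHom π.toRingHom) ≫ γ₁ = α := by
    change Spec.map (CommRingCat.ofHom π.toRingHom) ≫
      Spec.map (CommRingCat.ofHom i₁) ≫ X.fromSpecStalk x = _
    rw [← Category.assoc, ← Spec.map_comp, ← CommRingCat.ofHom_comp, hπi₁]
    change Spec.map (𝟙 _) ≫ _ = _
    rw [Spec.map_id, Category.id_comp]
  have h2 : Spec.map (CommRingCat.ofHom π.toRingHom) ≫ γ₂ = α := by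
    change Spec.map (CommRingCat.ofHom π.toRingHom) ≫
      Spec.map (CommRingCat.ofHom i₂) ≫ X.fromSpecStalk x = _
    rw [← Category.assoc, ← Spec.map_comp, ← CommRingCat.ofHom_comp, hπi₂]
    change Spec.map (𝟙 _) ≫ _ = _
    rw [Spec.map_id, Category.id_comp]
  have h1' : γ₁ ≫ f = β := by
    change (Spec.map (CommRingCat.ofHom i₁) ≫ X.fromSpecStalk x) ≫ f = _
    rw [Category.assoc, ← hfs, ← Category.assoc, ← Spec.map_comp, ← CommRingCat.ofHom_comp, hi₁]
  have h2' : γ₂ ≫ f = β := by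
    change (Spec.map (CommRingCat.ofHom i₂) ≫ X.fromSpecStalk x) ≫ f = _
    rw [Category.assoc, ← hfs, ← Category.assoc, ← Spec.map_comp, ← CommRingCat.ofHom_comp, hi₂]
  have hγ : γ₁ = γ₂ := H A T π.toRingHom hπsurj hπker α β hαx hcomm γ₁ γ₂ h1 h1' h2 h2'
  have hγ' : Spec.map (CommRingCat.ofHom i₁) = Spec.map (CommRingCat.ofHom i₂) := by
    rw [← cancel_mono (X.fromSpecStalk x)]
    exact hγ
  have hi : i₁ = i₂ := by
    have := Spec.map_injective hγ'
    exact congrArg CommRingCat.Hom.hom this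
  have hfu : Algebra.FormallyUnramified A₀ A := by
    refine formallyUnramified_of_kerSquare A₀ A fun a => ?_
    have h := congrArg (fun ψ : A →+* T => ψ a) hi
    have h' : q (a ⊗ₜ 1) = q (1 ⊗ₜ a) := h
    have h'' := (Ideal.Quotient.eq).mp h'.symm
    exact h''
  exact hfu

theorem lift_unique_iff {X Y : Scheme.{u}} (f : X ⟶ Y)
    [LocallyOfFinitePresentation f] (x : ↥X) :
    (∃ U : X.Opens, x ∈ U ∧ FormallyUnramified (U.ι ≫ f)) ↔
      ∀ (B B' : Type u) [CommRing B] [CommRing B'] [IsLocalRing B] [IsLocalRing B'] (φ : B' →+* B),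
      Function.Surjective φ → RingHom.ker φ ^ 2 = ⊥ →
      ∀ (α : Spec (CommRingCat.of B) ⟶ X) (β : Spec (CommRingCat.of B') ⟶ Y),
        α.base (IsLocalRing.closedPoint B) = x → Spec.map (CommRingCat.ofHom φ) ≫ β = α ≫ f →
        ∀ γ₁ γ₂ : Spec (CommRingCat.of B') ⟶ X,
          Spec.map (CommRingCat.ofHom φ) ≫ γ₁ = α → γ₁ ≫ f = β →
          Spec.map (CommRingCat.ofHom φ) ≫ γ₂ = α → γ₂ ≫ f = β → γ₁ = γ₂ := by
  constructor
  · rintro ⟨U, hxU, hU⟩ B B' _ _ _ _ φ hφ hker α β hα hcomm γ₁ γ₂ h1 h1' h2 h2'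
    exact lift_unique_of_nhd f x U hxU B B' φ hφ hker α β hα γ₁ γ₂ h1 h1' h2 h2'
  · intro H
    exact (exists_open_formallyUnramified_iff f x).mpr (unramAt_of_lift_unique f x H)

end Groth.Agent.Helper7.UnramBC
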