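import Mathlib
import Groth.Agent.Lib.Helper7.UnramBC.Main

/-! helper7: unramified iff geometric fibres are reduced and discrete (S14352): the algebra
statement over an algebraically closed field, the scheme statement over Spec K, and the
descent to a general base via the stalkwise base-change lemma of UnramBC.Main. -/

set_option autoImplicit false
set_option linter.style.haveILetI false
set_option linter.unusedVariables false
set_option linter.unusedSectionVars false
universe u

noncomputable section

namespace Groth.Agent.Helper7.UnramBC

open TensorProduct AlgebraicGeometry CategoryTheory CategoryTheory.Limits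

theorem formallyUnramified_of_isReduced_of_discrete (K A : Type u) [Field K] [IsAlgClosed K]
    [CommRing A] [Algebra K A] [Algebra.FiniteType K A] [IsReduced A]
    [DiscreteTopology (PrimeSpectrum A)] : Algebra.FormallyUnramified K A := by
  have hN : IsNoetherianRing A := Algebra.FiniteType.isNoetherianRing K A
  have hd : Ring.KrullDimLE 0 A :=
    (PrimeSpectrum.discreteTopology_iff_finite_and_krullDimLE_zero.mp inferInstance).2
  have hA : IsArtinianRing A := isArtinianRing_iff_isNoetherianRing_krullDimLE_zero.mpr ⟨hN, hd⟩
  have key : ∀ I : MaximalSpectrum A, Algebra.FormallyUnramified K (A ⧸ I.asIdeal) := by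
    intro I
    letI := Ideal.Quotient.field I.asIdeal
    have hfin : Module.Finite K (A ⧸ I.asIdeal) := finite_of_finite_type_of_isJacobsonRing K _
    have hint : Algebra.IsIntegral K (A ⧸ I.asIdeal) := inferInstance
    have hsurj : Function.Surjective (algebraMap K (A ⧸ I.asIdeal)) :=
      IsAlgClosed.algebraMap_bijective_of_isIntegral.2
    exact Algebra.FormallyUnramified.of_surjective (Algebra.ofId K (A ⧸ I.asIdeal)) hsurj
  exact .of_equiv ((IsArtinianRing.equivPi A).restrictScalars K).symm

theorem isReduced_and_discrete_of_formallyUnramified (K A : Type u) [Field K]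
    [CommRing A] [Algebra K A] [Algebra.FiniteType K A] [Algebra.FormallyUnramified K A] :
    IsReduced A ∧ DiscreteTopology (PrimeSpectrum A) := by
  have h1 : Algebra.EssFiniteType K A := inferInstance
  have h2 := Algebra.FormallyUnramified.finite_of_free K A
  have h3 : IsArtinianRing A := .of_finite K A
  exact ⟨Algebra.FormallyUnramified.isReduced_of_field K A, inferInstance⟩

theorem formallyUnramified_iff_of_affine (K : Type u) [Field K] [IsAlgClosed K] {Z : Scheme.{u}}
    (hZ : ∃ R, Z = Spec R)
    (g : Z ⟶ Spec (CommRingCat.of K)) [LocallyOfFiniteType g] :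
    FormallyUnramified g ↔ AlgebraicGeometry.IsReduced Z ∧ DiscreteTopology Z := by
  obtain ⟨R, rfl⟩ := hZ
  obtain ⟨φ, rfl⟩ := Spec.map_surjective g
  have hφ : φ.hom.FiniteType :=
    (HasRingHomProperty.Spec_iff (P := @LocallyOfFiniteType)).mp inferInstance
  algebraize [φ.hom]
  rw [HasRingHomProperty.Spec_iff (P := @FormallyUnramified), affine_isReduced_iff]
  constructor
  · intro h
    haveI : Algebra.FormallyUnramified K R := h
    exact isReduced_and_discrete_of_formallyUnramified K R
  · rintro ⟨h1, h2⟩
    haveI : DiscreteTopology (PrimeSpectrum R) := h2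
    exact formallyUnramified_of_isReduced_of_discrete K R

theorem formallyUnramified_iff_of_algClosed (K : Type u) [Field K] [IsAlgClosed K] {Z : Scheme.{u}}
    (g : Z ⟶ Spec (CommRingCat.of K)) [LocallyOfFiniteType g] :
    FormallyUnramified g ↔ AlgebraicGeometry.IsReduced Z ∧ DiscreteTopology Z := by
  rw [IsZariskiLocalAtSource.iff_of_openCover (P := @FormallyUnramified) Z.affineCover]
  have key : ∀ i, FormallyUnramified (Z.affineCover.f i ≫ g) ↔
      AlgebraicGeometry.IsReduced (Z.affineCover.X i) ∧ DiscreteTopology (Z.affineCover.X i) :=
    fun i => by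
      haveI : IsOpenImmersion (Z.affineCover.f i) := inferInstance
      haveI : LocallyOfFiniteType (Z.affineCover.f i) := inferInstance
      haveI : LocallyOfFiniteType (Z.affineCover.f i ≫ g) := inferInstance
      exact formallyUnramified_iff_of_affine K (Z := Z.affineCover.X i) ⟨_, rfl⟩
        (Z.affineCover.f i ≫ g)
  simp only [key]
  constructor
  · intro h
    haveI : ∀ i, AlgebraicGeometry.IsReduced (Z.affineCover.X i) := fun i => (h i).1
    refine ⟨IsReduced.of_openCover (X := Z) Z.affineCover, ?_⟩
    rw [discreteTopology_iff_isOpen_singleton]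
    intro z
    obtain ⟨i, y, rfl⟩ := Z.affineCover.exists_eq z
    haveI := (h i).2
    have := (Z.affineCover.f i).isOpenEmbedding.isOpenMap {y} (isOpen_discrete _)
    simpa using this
  · rintro ⟨h1, h2⟩ i
    refine ⟨isReduced_of_isOpenImmersion (Z.affineCover.f i), ?_⟩
    exact DiscreteTopology.of_continuous_injective (Z.affineCover.f i).continuous
      (Z.affineCover.f i).isOpenEmbedding.injective

theorem formallyUnramified_iff_geometric_fibres {X S : Scheme.{u}} (f : X ⟶ S)
    [LocallyOfFinitePresentation f] :
    FormallyUnramified f ↔
      ∀ (K : Type u) [Field K] [IsAlgClosed K] (s : Spec (CommRingCat.of K) ⟶ S),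
        AlgebraicGeometry.IsReduced (pullback f s) ∧ DiscreteTopology ↥(pullback f s) := by
  constructor
  · intro hf K _ _ s
    have h1 : FormallyUnramified (pullback.snd f s) :=
      MorphismProperty.pullback_snd (P := @FormallyUnramified) f s hf
    exact (formallyUnramified_iff_of_algClosed K (pullback.snd f s)).mp h1
  · intro H
    rw [formallyUnramified_iff_forall_unramAt]
    intro x
    let κ : Type u := S.residueField (f x)
    let K : Type u := AlgebraicClosure κ
    let s : Spec (CommRingCat.of K) ⟶ S :=
      Spec.map (CommRingCat.ofHom (algebraMap κ K)) ≫ S.fromSpecResidueField (f x)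
    have h1 : FormallyUnramified (pullback.snd f s) :=
      (formallyUnramified_iff_of_algClosed K (pullback.snd f s)).mpr (H K s)
    let t : Spec (CommRingCat.of K) := IsLocalRing.closedPoint K
    have hst : f x = s t := by
      change f x = (S.fromSpecResidueField (f x)) _
      rw [Scheme.fromSpecResidueField_apply]
    obtain ⟨z, hz1, hz2⟩ := Scheme.Pullback.exists_preimage_pullback x t hst
    have h2 := (formallyUnramified_iff_forall_unramAt _).mp h1 z
    have h3 := (unramAt_iff_of_isPullback (IsPullback.of_hasPullback f s) z).mp h2
    rwa [hz1] at h3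

end Groth.Agent.Helper7.UnramBC
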